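import Groth.Agent.SiteDer16.PushAcyclic
import Groth.Agent.SiteDer16.ExtCompare
import Groth.Agent.SiteDer16.FreeHom
import Groth.Agent.SiteCoh.Cohomology
import Groth.Agent.S6160

/-!
# Higher direct images along morphisms of ringed sites

`R^q f_*` of modules has as underlying abelian sheaf the sheafification of `W ↦ H^q(f^{-1} W, M)`, naturally
in the module.
-/

set_option autoImplicit false
set_option backward.isDefEq.respectTransparency false
set_option linter.style.haveILetI false

universe u

open CategoryTheory CategoryTheory.Limits CategoryTheory.Abelian Opposite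
open Groth.Agent.SiteDer16

namespace Groth.Agent.ModRpush

variable {C : Type u} [SmallCategory C] {J : GrothendieckTopology C} (O : Sheaf J CommRingCat.{u})

/-- The underlying abelian sheaf. -/
noncomputable abbrev toAb : ModSite.Mod O ⥤ Sheaf J AddCommGrpCat.{u} :=
  SheafOfModules.toSheaf.{u} (ModSite.ringSh O)

instance preservesFiniteColimits_toAb : PreservesFiniteColimits (toAb O) :=
  SiteDer16.preservesFiniteColimits_toSheaf (ModSite.ringSh O)

/-- The free abelian sheaf maps to the free module. -/
noncomputable def freeUnit (W : C) : CohCx.freeSheaf J W ⟶ (toAb O).obj ((modFree O).obj W) :=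
  (SiteCoh.homEquiv W _).symm (modHomEquiv O W _ (𝟙 _))

theorem freeUnit_naturality {W V : C} (g : W ⟶ V) :
    CohCx.freeSheafMap J g ≫ freeUnit O V = freeUnit O W ≫ (toAb O).map ((modFree O).map g) := by
  apply (SiteCoh.homEquiv W _).injective
  rw [SiteCoh.homEquiv_precomp, SiteCoh.homEquiv_postcomp, freeUnit, freeUnit, AddEquiv.apply_symm_apply,
    AddEquiv.apply_symm_apply]
  show _ = ((toAb O).map ((modFree O).map g)).hom.app (op W) (modHomEquiv₀ O W _ (𝟙 _))
  rw [← modHomEquiv₀_postcomp, Category.id_comp]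
  refine (modHomEquiv₀_precomp O g (𝟙 ((modFree O).obj V))).symm.trans ?_
  rw [Category.comp_id]

variable [HasExt.{u} (ModSite.Mod O)] [EnoughInjectives (ModSite.Mod O)]

/-- Ext out of a free module, as cohomology. -/
noncomputable def extEquiv (W : C) (M : ModSite.Mod O) (n : ℕ) :
    Ext.{u} ((modFree O).obj W) M n ≃+ CohSite.HU ((toAb O).obj M) n W :=
  AddEquiv.ofBijective (extCompare (toAb O) (freeUnit O W) M n)
    (bijective_extCompare (toAb O) (freeUnit O W) (fun F => by
        have e : (fun f : (modFree O).obj W ⟶ F => freeUnit O W ≫ (toAb O).map f) =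
            (SiteCoh.homEquiv W _).symm ∘ modHomEquiv O W F := funext fun f => by
          apply (SiteCoh.homEquiv W _).injective
          rw [Function.comp_apply, AddEquiv.apply_symm_apply, SiteCoh.homEquiv_postcomp, freeUnit,
            AddEquiv.apply_symm_apply]
          show ((toAb O).map f).hom.app (op W) (modHomEquiv₀ O W _ (𝟙 _)) = modHomEquiv₀ O W F f
          rw [← modHomEquiv₀_postcomp, Category.id_comp]
        rw [e]
        exact (SiteCoh.homEquiv W _).symm.bijective.comp (modHomEquiv O W F).bijective)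
      (fun I hI m => S0864.result _ (ModAcyclic.isTotallyAcyclic_toSheaf (ModSite.ringSh O) I) W m) n M)

/-- Sections as morphisms out of free modules. -/
noncomputable def homGroupsIso :
    SiteCoh.homGroups (modFree O) ≅ toAb O ⋙ sheafToPresheaf J AddCommGrpCat.{u} :=
  NatIso.ofComponents
    (fun M => NatIso.ofComponents (fun U => (modHomEquiv O U.unop M).toAddCommGrpIso)
      (fun {U V} i => by
        apply AddCommGrpCat.hom_ext
        exact AddMonoidHom.ext fun f => modHomEquiv₀_precomp O i.unop f))
    (fun {M N} g => by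
      ext U f
      exact modHomEquiv₀_postcomp O f g)

theorem extEquiv_res {W V : C} (g : W ⟶ V) (M : ModSite.Mod O) (n : ℕ) (x : Ext.{u} ((modFree O).obj V) M n) :
    extEquiv O W M n ((Ext.mk₀ ((modFree O).map g)).comp x (zero_add n)) =
      CohSite.res ((toAb O).obj M) n g (extEquiv O V M n x) := by
  show extCompare (toAb O) (freeUnit O W) M n ((Ext.mk₀ ((modFree O).map g)).comp x (zero_add n)) =
    (Ext.mk₀ (CohCx.freeSheafMap J g)).comp (extCompare (toAb O) (freeUnit O V) M n x) (zero_add n)
  rw [extCompare_apply, extCompare_apply, Ext.mapExactFunctor_comp, Ext.mapExactFunctor_mk₀,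
    Ext.mk₀_comp_mk₀_assoc, Ext.mk₀_comp_mk₀_assoc, freeUnit_naturality]

theorem extEquiv_post (W : C) {M N : ModSite.Mod O} (g : M ⟶ N) (n : ℕ)
    (x : Ext.{u} ((modFree O).obj W) M n) :
    extEquiv O W N n (x.comp (Ext.mk₀ g) (add_zero n)) =
      (extEquiv O W M n x).comp (Ext.mk₀ ((toAb O).map g)) (add_zero n) := by
  show extCompare (toAb O) (freeUnit O W) N n (x.comp (Ext.mk₀ g) (add_zero n)) =
    (extCompare (toAb O) (freeUnit O W) M n x).comp (Ext.mk₀ ((toAb O).map g)) (add_zero n)
  rw [extCompare_apply, extCompare_apply, Ext.mapExactFunctor_comp, Ext.mapExactFunctor_mk₀]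
  exact (Ext.comp_assoc_of_third_deg_zero _ _ _ _).symm

theorem extPshMap_apply (W : C) {M N : Sheaf J AddCommGrpCat.{u}} (g : M ⟶ N) (n : ℕ) (y : CohSite.HU M n W) :
    ((Sheaf.cohomologyPresheafFunctor.{u} J n).map g).app (op W) y = Ext.comp y (Ext.mk₀ g) (add_zero n) := rfl

theorem extGroupsMap_apply (W : C) {M N : ModSite.Mod O} (g : M ⟶ N) (n : ℕ)
    (x : Ext.{u} ((modFree O).obj W) M n) :
    ((SiteCoh.extGroups (modFree O) n).map g).app (op W) x = x.comp (Ext.mk₀ g) (add_zero n) := rfl

theorem extEquiv_natural (W : C) {M N : ModSite.Mod O} (g : M ⟶ N) (n : ℕ)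
    (x : Ext.{u} ((modFree O).obj W) M n) :
    extEquiv O W N n (((SiteCoh.extGroups (modFree O) n).map g).app (op W) x) =
      ((Sheaf.cohomologyPresheafFunctor.{u} J n).map ((toAb O).map g)).app (op W) (extEquiv O W M n x) := by
  rw [extGroupsMap_apply, extPshMap_apply]
  exact extEquiv_post O W g n x

/-- Ext groups out of free modules are the cohomology presheaves, for one module. -/
noncomputable def extPshIso (M : ModSite.Mod O) (n : ℕ) :
    (SiteCoh.extGroups (modFree O) n).obj M ≅ ((toAb O).obj M).cohomologyPresheaf n :=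
  NatIso.ofComponents (fun U => (extEquiv O U.unop M n).toAddCommGrpIso)
    (fun {U V} i => by
      apply AddCommGrpCat.hom_ext
      exact AddMonoidHom.ext fun x => extEquiv_res O i.unop M n x)

theorem extPshIso_apply (W : C) (M : ModSite.Mod O) (n : ℕ) (x : Ext.{u} ((modFree O).obj W) M n) :
    (extPshIso O M n).hom.app (op W) x = extEquiv O W M n x := rfl

theorem extPshIso_natural (n : ℕ) {M N : ModSite.Mod O} (g : M ⟶ N) :
    (SiteCoh.extGroups (modFree O) n).map g ≫ (extPshIso O N n).hom =
      (extPshIso O M n).hom ≫ (Sheaf.cohomologyPresheafFunctor.{u} J n).map ((toAb O).map g) := by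
  refine NatTrans.ext (funext fun U => ConcreteCategory.hom_ext _ _ fun x => ?_)
  rw [NatTrans.comp_app, NatTrans.comp_app, ConcreteCategory.comp_apply, ConcreteCategory.comp_apply]
  refine (extPshIso_apply O U.unop N n _).trans ((extEquiv_natural O U.unop g n x).trans ?_)
  exact congrArg _ (extPshIso_apply O U.unop M n x).symm

/-- Ext groups out of free modules are the cohomology presheaves. -/
noncomputable def extGroupsIso (n : ℕ) :
    SiteCoh.extGroups (modFree O) n ≅ toAb O ⋙ Sheaf.cohomologyPresheafFunctor.{u} J n :=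
  NatIso.ofComponents (fun M => extPshIso O M n) (fun {M N} g => extPshIso_natural O n g)

variable {O} {D : Type u} [SmallCategory D] {K : GrothendieckTopology D} {O_D : Sheaf K CommRingCat.{u}}
  (f : ModSite.RMor O O_D) [HasInjectiveResolutions (ModSite.Mod O)]

/-- The presheaves `W ↦ H^q(f^{-1} W, M)`. -/
noncomputable abbrev cohPshF (q : ℕ) : ModSite.Mod O ⥤ (Dᵒᵖ ⥤ AddCommGrpCat.{u}) :=
  (toAb O ⋙ Sheaf.cohomologyPresheafFunctor.{u} J q) ⋙
    (Functor.whiskeringLeft _ _ AddCommGrpCat.{u}).obj f.fn.op

/-- Higher direct images as sheafified cohomology presheaves. -/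
noncomputable def rpushIso (q : ℕ) :
    f.Rpush q ⋙ toAb O_D ≅ cohPshF f q ⋙ presheafToSheaf K AddCommGrpCat.{u} :=
  haveI := f.isContinuous
  (SiteCoh.rightDerivedCompExactIso f.push (toAb O_D) q).symm ≪≫
    SiteCoh.rightDerivedCongr
      (show f.push ⋙ toAb O_D ≅ SiteCoh.homGroups (modFree O) ⋙
          ((Functor.whiskeringLeft _ _ AddCommGrpCat.{u}).obj f.fn.op ⋙ presheafToSheaf K AddCommGrpCat.{u}) from
        NatIso.ofComponents (fun _ => Iso.refl _)
            (fun _ => (Category.comp_id _).trans (Category.id_comp _).symm) ≪≫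
          Functor.isoWhiskerLeft (toAb O) (SiteCoh.pushIso J K f.fn) ≪≫ (Functor.associator _ _ _).symm ≪≫
          Functor.isoWhiskerRight (homGroupsIso O).symm _) q ≪≫
    SiteCoh.rightDerivedCompExactIso _ _ q ≪≫
    Functor.isoWhiskerRight (SiteCoh.rightDerivedHomGroupsIso (modFree O) q ≪≫ extGroupsIso O q) _ ≪≫
    (Functor.associator _ _ _).symm

end Groth.Agent.ModRpush
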